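import Mathlib
import Cfsg.Prelude.Def_Sporadic
set_option linter.all false

/-!
# Simplicity criterion for `3·McL`

A finite group `C` with a subgroup `A` of index `7128`, a central subgroup `Z ≤ A` of order 3, such that the double
cosets of `A` have sizes `|A|` times `1, 252, 3500, 2625, 750` and the only `A`-invariant subgroups between `Z` and `A`
are `Z` and `A`.  Then a normal subgroup of `C` containing `Z` is `Z` or `C`.
-/

set_option autoImplicit false

namespace Cfsg.Agent.Ly.McL.Simple

open Subgroup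

/-- If the Sylow `p`-subgroups have order `p`, there are `n_p (p - 1)` elements of order `p`. -/
theorem card_orderOf_prime {G : Type*} [Group G] [Finite G] {p : ℕ} [hp : Fact p.Prime]
    (hP : ∀ P : Sylow p G, Nat.card (P : Subgroup G) = p) :
    Nat.card {x : G // orderOf x = p} = Nat.card (Sylow p G) * (p - 1) := by
  classical
  have hord : ∀ (Q : Sylow p G) (x : G), x ∈ (Q : Subgroup G) → x ≠ 1 → orderOf x = p := by
    intro Q x hx hx1
    have h1 : orderOf x ∣ p := by
      have := Subgroup.orderOf_dvd_natCard (Q : Subgroup G) hx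
      rwa [hP Q] at this
    rcases (Nat.dvd_prime hp.out).mp h1 with h | h
    · exact absurd (orderOf_eq_one_iff.mp h) hx1
    · exact h
  have hzp : ∀ (Q : Sylow p G) (x : G), x ∈ (Q : Subgroup G) → x ≠ 1 → (Q : Subgroup G) = zpowers x := by
    intro Q x hx hx1
    symm
    apply Subgroup.eq_of_le_of_card_ge
    · rw [zpowers_le]; exact hx
    · rw [hP Q, Nat.card_zpowers, hord Q x hx hx1]
  let f : (Σ Q : Sylow p G, {x : (Q : Subgroup G) // x ≠ 1}) → {x : G // orderOf x = p} :=
    fun a => ⟨a.2.1.1, hord a.1 a.2.1.1 a.2.1.2 (fun h => a.2.2 (Subtype.ext h))⟩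
  have hf : Function.Bijective f := by
    constructor
    · rintro ⟨Q, ⟨⟨x, hx⟩, hx1⟩⟩ ⟨R, ⟨⟨y, hy⟩, hy1⟩⟩ h
      have hxy : x = y := congrArg Subtype.val h
      subst hxy
      have hx1' : x ≠ 1 := fun h => hx1 (Subtype.ext h)
      have hQR : Q = R := by
        apply Sylow.ext
        rw [hzp Q x hx hx1', hzp R x hy hx1']
      subst hQR
      rfl
    · rintro ⟨x, hx⟩
      have hpg : IsPGroup p (zpowers x) := IsPGroup.of_card (n := 1) (by rw [Nat.card_zpowers, hx, pow_one])
      obtain ⟨Q, hQ⟩ := hpg.exists_le_sylow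
      have hx1 : x ≠ 1 := by
        intro h
        rw [h, orderOf_one] at hx
        exact hp.out.one_lt.ne hx
      exact ⟨⟨Q, ⟨⟨x, hQ (mem_zpowers x)⟩, fun h => hx1 (congrArg Subtype.val h)⟩⟩, rfl⟩
  rw [← Nat.card_congr (Equiv.ofBijective f hf)]
  have : Fintype (Sylow p G) := Fintype.ofFinite _
  rw [Nat.card_sigma]
  have hc : ∀ Q : Sylow p G, Nat.card {x : (Q : Subgroup G) // x ≠ 1} = p - 1 := by
    intro Q
    have : Fintype (Q : Subgroup G) := Fintype.ofFinite _
    rw [Nat.card_eq_fintype_card, Fintype.card_subtype_compl, ← Nat.card_eq_fintype_card,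
      Fintype.card_subtype_eq, hP Q]
  simp only [hc]
  rw [Finset.sum_const, Finset.card_univ, Nat.card_eq_fintype_card, smul_eq_mul]

/-- The suborbit lengths. -/
def F : Fin 5 → ℕ := ![1, 252, 3500, 2625, 750]

theorem dvd_cases : ∀ J : Finset (Fin 5), 0 ∈ J → (∑ j ∈ J, F j) ∣ 7128 → J = {0} ∨ J = Finset.univ := by
  decide

theorem eleven_cases : ∀ J : Finset (Fin 5), 0 ∉ J → J.Nonempty → (∑ j ∈ J, F j) % 10 = 0 →
    ((∑ j ∈ J, F j) / 10) % 11 ≠ 1 := by
  decide

variable {C : Type*} [Group C] [Finite C]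

/-- The cardinality of a union of double cosets. -/
theorem card_union (A : Subgroup C) (cls : C → Fin 5)
    (hsize : ∀ j, Nat.card {g : C // cls g = j} = F j * Nat.card A) (S : Set C)
    (hS : ∀ g ∈ S, ∀ g', cls g' = cls g → g' ∈ S) :
    ∃ J : Finset (Fin 5), (∀ j, j ∈ J ↔ ∃ g ∈ S, cls g = j) ∧
      Nat.card S = (∑ j ∈ J, F j) * Nat.card A := by
  classical
  have : Fintype C := Fintype.ofFinite _
  refine ⟨Finset.univ.filter fun j => ∃ g ∈ S, cls g = j, by simp, ?_⟩
  have h1 : ∀ g : C, g ∈ S ↔ ∃ g' ∈ S, cls g' = cls g := by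
    intro g
    exact ⟨fun h => ⟨g, h, rfl⟩, fun ⟨g', h, e⟩ => hS g' h g e.symm⟩
  rw [Finset.sum_mul]
  have h2 : Nat.card S = ∑ j ∈ Finset.univ.filter (fun j => ∃ g ∈ S, cls g = j),
      (Finset.univ.filter fun g : C => cls g = j).card := by
    rw [← Finset.card_biUnion]
    · have h3 : S = (((Finset.univ.filter fun j => ∃ g ∈ S, cls g = j).biUnion
          fun j => Finset.univ.filter fun g : C => cls g = j : Finset C) : Set C) := by
        ext g
        simp only [Finset.coe_biUnion, Finset.coe_filter, Finset.mem_univ, true_and, Set.mem_iUnion,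
          Set.mem_ofPred_eq, exists_prop]
        rw [h1 g]
        exact ⟨fun h => ⟨cls g, h, rfl⟩, fun ⟨j, hj, e⟩ => by rw [e]; exact hj⟩
      rw [Nat.card_coe_set_eq]
      conv_lhs => rw [h3]
      rw [Set.ncard_coe_finset]
    · intro i _ j _ hij
      rw [Function.onFun, Finset.disjoint_left]
      intro g hg hg'
      simp only [Finset.mem_filter, Finset.mem_univ, true_and] at hg hg'
      exact hij (hg.symm.trans hg')
  rw [h2]
  apply Finset.sum_congr rfl
  intro j _
  rw [← hsize j, Nat.card_eq_fintype_card, Fintype.card_subtype]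

/-- **The simplicity criterion.** -/
theorem normal_eq (A Z : Subgroup C) (hZA : Z ≤ A) (hZcard : Nat.card Z = 3)
    (hZc : ∀ z ∈ Z, ∀ g, g * z = z * g) (hC : Nat.card C = 7128 * Nat.card A)
    (hA : ∀ M : Subgroup C, M ≤ A → Z ≤ M → (∀ a ∈ A, ∀ m ∈ M, a * m * a⁻¹ ∈ M) → M = Z ∨ M = A)
    (cls : C → Fin 5) (hcls : ∀ g g', cls g' = cls g ↔ ∃ a ∈ A, ∃ b ∈ A, g' = a * g * b)
    (hcls0 : ∀ g, cls g = 0 ↔ g ∈ A)
    (hsize : ∀ j, Nat.card {g : C // cls g = j} = F j * Nat.card A)
    (N : Subgroup C) [hN : N.Normal] (hZN : Z ≤ N) : N = Z ∨ N = ⊤ := by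
  classical
  have hApos : 0 < Nat.card A := Nat.card_pos
  -- the subgroup `N A`
  have hV : ∀ g ∈ ((N ⊔ A : Subgroup C) : Set C), ∀ g', cls g' = cls g → g' ∈ ((N ⊔ A : Subgroup C) : Set C) := by
    intro g hg g' hg'
    obtain ⟨a, ha, b, hb, rfl⟩ := (hcls g g').mp hg'
    exact (N ⊔ A).mul_mem ((N ⊔ A).mul_mem ((le_sup_right : A ≤ N ⊔ A) ha) hg) ((le_sup_right : A ≤ N ⊔ A) hb)
  obtain ⟨J, hJ, hJc⟩ := card_union A cls hsize _ hV
  have h0J : (0 : Fin 5) ∈ J := (hJ 0).mpr ⟨1, one_mem _, (hcls0 1).mpr (one_mem _)⟩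
  have hdvd : (∑ j ∈ J, F j) ∣ 7128 := by
    have h1 : Nat.card (N ⊔ A : Subgroup C) ∣ Nat.card C := card_subgroup_dvd_card _
    rw [show Nat.card (N ⊔ A : Subgroup C) = _ from hJc, hC] at h1
    exact Nat.dvd_of_mul_dvd_mul_right hApos h1
  -- `N ∩ A`
  have hM := hA (N ⊓ A) inf_le_right (le_inf hZN hZA) (fun a ha m hm =>
    ⟨hN.conj_mem m hm.1 a, A.mul_mem (A.mul_mem ha hm.2) (A.inv_mem ha)⟩)
  rcases dvd_cases J h0J hdvd with hJ0 | hJ1
  · -- `N ≤ A`
    have hNA : N ≤ A := by
      intro g hg
      rw [← hcls0]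
      have : cls g ∈ J := (hJ _).mpr ⟨g, (le_sup_left : N ≤ N ⊔ A) hg, rfl⟩
      rw [hJ0] at this
      simpa using this
    rw [inf_eq_left.mpr hNA] at hM
    rcases hM with h | h
    · exact Or.inl h
    · -- `A` normal is impossible
      exfalso
      subst h
      have h1 : Nat.card {g : C // cls g = 1} = 252 * Nat.card N := hsize 1
      have h2 : 0 < Nat.card {g : C // cls g = 1} := by rw [h1]; positivity
      obtain ⟨⟨g, hg⟩⟩ := (Nat.card_pos_iff.mp h2).1
      have h3 : Nat.card {g : C // cls g = 1} ≤ Nat.card N := by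
        refine Nat.card_le_card_of_injective
          (fun y : {g : C // cls g = 1} => (⟨g⁻¹ * y.1, ?_⟩ : N)) ?_
        · obtain ⟨a, ha, b, hb, h4⟩ := (hcls g y.1).mp (by rw [y.2, hg])
          rw [h4]
          have : g⁻¹ * (a * g * b) = g⁻¹ * a * g⁻¹⁻¹ * b := by group
          rw [this]
          exact N.mul_mem (hN.conj_mem a ha g⁻¹) hb
        · intro y y' h
          exact Subtype.ext (mul_left_cancel (congrArg Subtype.val h))
      rw [h1] at h3
      omega
  · -- `N A = C`
    have hVtop : N ⊔ A = ⊤ := by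
      apply Subgroup.eq_top_of_card_eq
      rw [show Nat.card (N ⊔ A : Subgroup C) = _ from hJc, hJ1, hC]
      rfl
    rcases hM with h | h
    · -- `N ∩ A = Z`
      exfalso
      have hNcard : Nat.card N = 21384 := by
        have h1 : N.index = N.relIndex A := by
          rw [← relIndex_top_right, ← hVtop, sup_comm, relIndex_sup_right]
        have h2 : N.relIndex A * 3 = Nat.card A := by
          rw [← inf_relIndex_right, h, ← hZcard, mul_comm]
          have h3 := Subgroup.card_mul_index (Z.subgroupOf A)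
          rw [Nat.card_congr (Subgroup.subgroupOfEquivOfLe hZA).toEquiv] at h3
          exact h3
        have h4 := Subgroup.card_mul_index N
        rw [hC, ← h2, ← h1] at h4
        have h5 : 0 < N.index := Nat.pos_of_ne_zero Subgroup.index_ne_zero_of_finite
        have h6 : Nat.card N * N.index = 21384 * N.index := by rw [h4]; ring
        exact Nat.eq_of_mul_eq_mul_right h5 h6
      have hp : Fact (Nat.Prime 11) := ⟨by norm_num⟩
      have hSyl : ∀ P : Sylow 11 N, Nat.card (P : Subgroup N) = 11 := by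
        intro P
        obtain ⟨n, hn⟩ := IsPGroup.iff_card.mp P.isPGroup'
        have h1 : Nat.card (P : Subgroup N) ∣ 21384 := by
          rw [← hNcard]
          exact card_subgroup_dvd_card _
        have h2 : 11 ∣ Nat.card (P : Subgroup N) := P.dvd_card_of_dvd_card (by rw [hNcard]; norm_num)
        rw [hn] at h1 h2 ⊢
        have h3 : n = 1 := by
          rcases n with _ | _ | n
          · norm_num at h2
          · rfl
          · exfalso
            have h4 : 11 ^ 2 ∣ 21384 := (pow_dvd_pow 11 (by omega)).trans h1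
            norm_num at h4
        rw [h3, pow_one]
      have hT := card_orderOf_prime hSyl
      have hmod := card_sylow_modEq_one 11 N
      -- the set `T A`
      set S : Set C := {g | ∃ n ∈ N, orderOf n = 11 ∧ ∃ a ∈ A, g = n * a} with hSdef
      have hSinv : ∀ g ∈ S, ∀ g', cls g' = cls g → g' ∈ S := by
        rintro g ⟨n, hn, hn11, a, ha, rfl⟩ g' hg'
        obtain ⟨u, hu, v, hv, rfl⟩ := (hcls _ g').mp hg'
        refine ⟨u * n * u⁻¹, hN.conj_mem n hn u, ?_, u * a * v, A.mul_mem (A.mul_mem hu ha) hv, by group⟩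
        rw [← hn11]
        exact (MulAut.conj u).orderOf_eq n
      obtain ⟨K, hK, hKc⟩ := card_union A cls hsize S hSinv
      have h0K : (0 : Fin 5) ∉ K := by
        intro h0
        obtain ⟨g, ⟨n, hn, hn11, a, ha, rfl⟩, hg0⟩ := (hK 0).mp h0
        have hnA : n ∈ A := by
          have := (hcls0 _).mp hg0
          have h1 := A.mul_mem this (A.inv_mem ha)
          rwa [mul_inv_cancel_right] at h1
        have hnZ : n ∈ Z := by rw [← h]; exact ⟨hn, hnA⟩
        have h1 := Subgroup.orderOf_dvd_natCard Z hnZ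
        rw [hn11, hZcard] at h1
        norm_num at h1
      have hSc : Nat.card S = Nat.card {x : N // orderOf x = 11} * Nat.card A := by
        rw [← Nat.card_prod]
        symm
        apply Nat.card_congr
        refine Equiv.ofBijective (fun q : {x : N // orderOf x = 11} × A =>
          (⟨(q.1.1 : C) * (q.2 : C), q.1.1, q.1.1.2, by rw [Subgroup.orderOf_coe]; exact q.1.2, q.2, q.2.2, rfl⟩ : S))
          ⟨?_, ?_⟩
        · rintro ⟨⟨⟨n, hn⟩, hn11⟩, ⟨a, ha⟩⟩ ⟨⟨⟨n', hn'⟩, hn11'⟩, ⟨a', ha'⟩⟩ hq
          have hq' : n * a = n' * a' := congrArg Subtype.val hq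
          have hn11 : orderOf n = 11 := by rw [← hn11, Subgroup.orderOf_mk]
          have hn11' : orderOf n' = 11 := by rw [← hn11', Subgroup.orderOf_mk]
          have h1 : n'⁻¹ * n = a' * a⁻¹ := by
            rw [inv_mul_eq_iff_eq_mul, ← mul_assoc, ← hq', mul_inv_cancel_right]
          have hz : n'⁻¹ * n ∈ Z := by
            rw [← h]
            exact ⟨N.mul_mem (N.inv_mem hn') hn, by rw [h1]; exact A.mul_mem ha' (A.inv_mem ha)⟩
          have h2 : n = n' * (n'⁻¹ * n) := by group
          have hcomm : Commute n' (n'⁻¹ * n) := hZc _ hz n'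
          have h3 : (n'⁻¹ * n) ^ 11 = 1 := by
            have h4 : n ^ 11 = 1 := by rw [← hn11]; exact pow_orderOf_eq_one n
            have h5 : n' ^ 11 = 1 := by rw [← hn11']; exact pow_orderOf_eq_one n'
            rw [h2, hcomm.mul_pow, h5, one_mul] at h4
            exact h4
          have h4 : (n'⁻¹ * n) ^ 3 = 1 := by
            rw [← orderOf_dvd_iff_pow_eq_one, ← hZcard]
            exact Subgroup.orderOf_dvd_natCard Z hz
          have h5 : n'⁻¹ * n = 1 := by
            have h6 : (n'⁻¹ * n) ^ 12 = 1 := by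
              rw [show 12 = 3 * 4 by norm_num, pow_mul, h4, one_pow]
            rwa [pow_succ, h3, one_mul] at h6
          have h6 : n = n' := (inv_mul_eq_one.mp h5).symm
          subst h6
          have h7 : a = a' := mul_left_cancel hq'
          subst h7
          rfl
        · rintro ⟨g, n, hn, hn11, a, ha, rfl⟩
          exact ⟨(⟨⟨n, hn⟩, by rw [← hn11, Subgroup.orderOf_mk]⟩, ⟨a, ha⟩), rfl⟩
      have hsum : ∑ j ∈ K, F j = Nat.card (Sylow 11 N) * 10 := by
        rw [hKc] at hSc
        have h1 := Nat.eq_of_mul_eq_mul_right hApos hSc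
        rw [h1, hT]
      have hKne : K.Nonempty := by
        rw [Finset.nonempty_iff_ne_empty]
        intro hK0
        rw [hK0, Finset.sum_empty] at hsum
        have : 0 < Nat.card (Sylow 11 N) := Nat.card_pos
        omega
      apply eleven_cases K h0K hKne
      · rw [hsum]; omega
      · rw [hsum, Nat.mul_div_cancel _ (by norm_num)]
        exact hmod
    · right
      rw [← hVtop, eq_comm, sup_eq_left]
      rw [← h]
      exact inf_le_left

/-- Centre and central quotient of `3·McL`. -/
theorem center_and_quotient (Z : Subgroup C) [Z.Normal] (hZcard : Nat.card Z = 3)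
    (hZc : ∀ z ∈ Z, ∀ g, g * z = z * g) (hC : Nat.card C = 2694384000)
    (hmax : ∀ N : Subgroup C, N.Normal → Z ≤ N → N = Z ∨ N = ⊤) (hab : ∃ g h : C, g * h ≠ h * g) :
    Nat.card (center C) = 3 ∧ Cfsg.IsMcL (C ⧸ center C) := by
  have hZle : Z ≤ center C := fun z hz => mem_center_iff.mpr fun g => hZc z hz g
  have hcen : center C = Z := by
    rcases hmax (center C) inferInstance hZle with h | h
    · exact h
    · exfalso
      obtain ⟨g, k, hgk⟩ := hab
      have hk : k ∈ center C := by rw [h]; exact mem_top k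
      exact hgk (mem_center_iff.mp hk g)
  subst hcen
  have hq : Nat.card (C ⧸ center C) = 898128000 := by
    have h1 := Subgroup.card_mul_index (center C)
    rw [hZcard, hC] at h1
    have h2 : (center C).index = Nat.card (C ⧸ center C) := rfl
    omega
  have hsimple : IsSimpleGroup (C ⧸ center C) := by
    have hnt : Nontrivial (C ⧸ center C) := by
      have : Finite (C ⧸ center C) := inferInstance
      rw [← Finite.one_lt_card_iff_nontrivial, hq]
      norm_num
    refine ⟨fun N hN => ?_⟩
    have hker : (QuotientGroup.mk' (center C)).ker = center C := QuotientGroup.ker_mk' (center C)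
    have h1 : center C ≤ N.comap (QuotientGroup.mk' (center C)) := by
      intro z hz
      rw [mem_comap]
      have : (QuotientGroup.mk' (center C)) z = 1 := (QuotientGroup.eq_one_iff z).mpr hz
      rw [this]
      exact one_mem N
    have hsurj : Function.Surjective (QuotientGroup.mk' (center C)) := QuotientGroup.mk'_surjective (center C)
    rcases hmax (N.comap (QuotientGroup.mk' (center C))) (hN.comap _) h1 with h | h
    · left
      rw [← Subgroup.map_comap_eq_self_of_surjective hsurj N, h]
      exact (Subgroup.map_eq_bot_iff _).mpr hker.ge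
    · right
      rw [← Subgroup.map_comap_eq_self_of_surjective hsurj N, h]
      exact Subgroup.map_top_of_surjective _ hsurj
  exact ⟨hZcard, hsimple, hq⟩

end Cfsg.Agent.Ly.McL.Simple
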